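import Cfsg.Agent.Lib.Spor.Fi22.U62.Points
import Cfsg.Agent.Lib.Spor.FourField
import Cfsg.Agent.Lib.Classical.UnitarySimple

/-!
The action of the special unitary group in six dimensions over four elements on 693 points.
-/

set_option autoImplicit false
set_option maxRecDepth 100000

namespace CfsgLib.Spor.Fi22.U62

open Matrix CfsgLib.PresCert CfsgLib.Classical.Unitary

/-- vectors -/
abbrev V : Type := Fin 6 → QField

/-- the squaring map -/
def sig : QField →+* QField where
  toFun x := x * x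
  map_one' := one_mul 1
  map_mul' a b := mul_mul_mul_comm a b a b
  map_zero' := mul_zero 0
  map_add' := by decide +kernel

theorem card_qfield : Nat.card QField = 2 ^ 2 := by
  rw [Nat.card_eq_fintype_card]; decide +kernel

theorem sig_frob : UFrob sig 2 where
  pow x := (pow_two x).symm
  ne h := absurd (RingHom.congr_fun h ⟨⟨2, by omega⟩⟩) (by decide +kernel)
  invol := by decide +kernel

/-- entry of a code -/
def qd (x i : ℕ) : QField := ⟨⟨Nat.shiftRight x (2 * i) % 4, Nat.mod_lt _ (Nat.succ_pos 3)⟩⟩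

/-- the vector of a code -/
def ev (x : ℕ) : V := ![qd x 0, qd x 1, qd x 2, qd x 3, qd x 4, qd x 5]

/-- the code of six entries -/
def enc6 (a b c d e f : QField) : ℕ :=
  a.val.val + 4 * b.val.val + 16 * c.val.val + 64 * d.val.val + 256 * e.val.val + 1024 * f.val.val

/-- the code of a vector -/
def enc (v : V) : ℕ := enc6 (v 0) (v 1) (v 2) (v 3) (v 4) (v 5)

theorem enc_lt (v : V) : enc v < 4096 := by
  have := (v 0).val.isLt; have := (v 1).val.isLt; have := (v 2).val.isLt
  have := (v 3).val.isLt; have := (v 4).val.isLt; have := (v 5).val.isLt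
  simp only [enc, enc6]; omega

theorem ev_enc (v : V) : ev (enc v) = v := by
  have := (v 0).val.isLt; have := (v 1).val.isLt; have := (v 2).val.isLt
  have := (v 3).val.isLt; have := (v 4).val.isLt; have := (v 5).val.isLt
  have key : ∀ (x : QField) (n : ℕ), x.val.val = n % 4 →
      (⟨⟨n % 4, Nat.mod_lt _ (Nat.succ_pos 3)⟩⟩ : QField) = x :=
    fun x n h => congrArg QField.mk (Fin.ext h.symm)
  funext i
  fin_cases i <;> refine key _ _ ?_ <;>
    simp [enc, enc6, Nat.shiftRight_eq] <;> omega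

/-- the Hermitian form on codes -/
def hh (x y : ℕ) : QField :=
  qd x 0 * (qd y 0 * qd y 0) + qd x 1 * (qd y 1 * qd y 1) + qd x 2 * (qd y 2 * qd y 2) +
    qd x 3 * (qd y 3 * qd y 3) + qd x 4 * (qd y 4 * qd y 4) + qd x 5 * (qd y 5 * qd y 5)

theorem uh_ev (x y : ℕ) : uh sig (ev x) (ev y) = hh x y := by
  simp [uh, dotProduct, Fin.sum_univ_six, ev, hh, sig, Function.comp]

/-- code of `x + c y` -/
def axpy (x : ℕ) (c : QField) (y : ℕ) : ℕ :=
  enc6 (qd x 0 + c * qd y 0) (qd x 1 + c * qd y 1) (qd x 2 + c * qd y 2) (qd x 3 + c * qd y 3)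
    (qd x 4 + c * qd y 4) (qd x 5 + c * qd y 5)

theorem enc_axpy (x : ℕ) (c : QField) (y : ℕ) : enc (ev x + c • ev y) = axpy x c y := by
  simp [enc, axpy, ev]

/-- code of a scalar multiple -/
def scale (c : QField) (y : ℕ) : ℕ :=
  enc6 (c * qd y 0) (c * qd y 1) (c * qd y 2) (c * qd y 3) (c * qd y 4) (c * qd y 5)

theorem enc_smul (c : QField) (y : ℕ) : enc (c • ev y) = scale c y := by
  simp [enc, scale, ev]

/-- code of a point -/
noncomputable def ptC (p : ℕ) : ℕ := Data.pts.half p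

/-- index of a code -/
noncomputable def idxC (x : ℕ) : ℕ := Data.idx.half x

/-- the three nonzero scalars -/
def units : List QField := [1, ⟨⟨2, by omega⟩⟩, ⟨⟨3, by omega⟩⟩]

theorem mem_units : ∀ c : QField, c ≠ 0 → c ∈ units := by decide +kernel

theorem pts_ok : (allBelow 693 fun p =>
    decide (hh (ptC p) (ptC p) = 0) && Nat.blt 0 (scale 1 (ptC p)) &&
      units.all fun c => Nat.beq (idxC (scale c (ptC p))) p) = true := by
  decide +kernel

theorem idx_ok : (allBelow 4096 fun x =>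
    Nat.beq x 0 || !decide (hh x x = 0) ||
      (Nat.blt (idxC x) 693 && units.any fun c => Nat.beq (scale c (ptC (idxC x))) x)) = true := by
  decide +kernel

/-- the representative of a point -/
noncomputable def pt (p : Fin 693) : V := ev (ptC p)

theorem pt_spec (p : Fin 693) : uh sig (pt p) (pt p) = 0 ∧ pt p ≠ 0 ∧
    ∀ c : QField, c ≠ 0 → idxC (enc (c • pt p)) = p := by
  have h := allBelow_spec pts_ok p p.2
  simp only [Bool.and_eq_true, decide_eq_true_eq, List.all_eq_true, Nat.beq_eq] at h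
  obtain ⟨⟨h1, h2⟩, h3⟩ := h
  have key : ∀ c : QField, c ≠ 0 → idxC (enc (c • pt p)) = p := fun c hc => by
    rw [pt, enc_smul]; exact h3 c (mem_units c hc)
  refine ⟨by rw [pt, uh_ev, h1], fun h0 => ?_, key⟩
  have h5 : scale 1 (ptC p) = 0 := by
    rw [← enc_smul, ← pt, h0, smul_zero]; rfl
  rw [h5] at h2
  exact absurd h2 (by decide)

theorem exists_index {v : V} (hv : v ≠ 0) (hvv : uh sig v v = 0) :
    ∃ (p : Fin 693) (c : QField), c ≠ 0 ∧ v = c • pt p := by
  have h := allBelow_spec idx_ok (enc v) (enc_lt v)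
  simp only [Bool.or_eq_true, Bool.and_eq_true, Nat.beq_eq, Nat.blt_eq, List.any_eq_true,
    Bool.not_eq_true', decide_eq_false_iff_not] at h
  rw [← uh_ev, ev_enc] at h
  rcases h with (h | h) | ⟨hlt, c, hc, e⟩
  · exact absurd (by rw [← ev_enc v, h]; decide +kernel) hv
  · exact absurd hvv h
  refine ⟨⟨_, hlt⟩, c, ?_, ?_⟩
  · rintro rfl
    revert hc
    decide +kernel
  · have e' := congrArg ev e
    rw [← enc_smul, ev_enc, ev_enc] at e'
    exact e'.symm

theorem mulVec_ne_zero (g : Cfsg.SU 6 QField 2) {v : V} (hv : v ≠ 0) : g.1.1 *ᵥ v ≠ 0 := fun h => by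
  have := congrArg (fun w => (g⁻¹ : Cfsg.SU 6 QField 2).1.1 *ᵥ w) h
  simp only [mulVec_zero, su_inv_mulVec] at this
  exact hv this

theorem exists_image (g : Cfsg.SU 6 QField 2) (p : Fin 693) :
    ∃ (r : Fin 693) (c : QField), c ≠ 0 ∧ g.1.1 *ᵥ pt p = c • pt r :=
  exists_index (mulVec_ne_zero g (pt_spec p).2.1) (by rw [su_uh sig_frob, (pt_spec p).1])

/-- image of a point -/
noncomputable def imgFun (g : Cfsg.SU 6 QField 2) (p : Fin 693) : Fin 693 :=
  (exists_image g p).choose

theorem imgFun_eq {g : Cfsg.SU 6 QField 2} {p r : Fin 693} {c : QField} (hc : c ≠ 0)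
    (h : g.1.1 *ᵥ pt p = c • pt r) : imgFun g p = r := by
  obtain ⟨d, hd, e⟩ := (exists_image g p).choose_spec
  have h1 := (pt_spec r).2.2 c hc
  have h2 := (pt_spec (imgFun g p)).2.2 d hd
  rw [← h, e] at h1
  exact Fin.ext (h2.symm.trans h1)

theorem imgFun_spec (g : Cfsg.SU 6 QField 2) (p : Fin 693) :
    ∃ c : QField, c ≠ 0 ∧ g.1.1 *ᵥ pt p = c • pt (imgFun g p) :=
  (exists_image g p).choose_spec

theorem imgFun_one (p : Fin 693) : imgFun 1 p = p :=
  imgFun_eq one_ne_zero (by rw [su_one_mulVec, one_smul])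

theorem imgFun_mul (g k : Cfsg.SU 6 QField 2) (p : Fin 693) :
    imgFun (g * k) p = imgFun g (imgFun k p) := by
  obtain ⟨c, hc, ec⟩ := imgFun_spec k p
  obtain ⟨d, hd, ed⟩ := imgFun_spec g (imgFun k p)
  exact imgFun_eq (mul_ne_zero hc hd) (by rw [su_mul_mulVec, ec, mulVec_smul, ed, smul_smul])

/-- the action on points -/
noncomputable def pointHom : Cfsg.SU 6 QField 2 →* Equiv.Perm (Fin 693) :=
  MonoidHom.mk'
    (fun g => ⟨imgFun g, imgFun g⁻¹,
      fun p => by rw [← imgFun_mul, inv_mul_cancel, imgFun_one],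
      fun p => by rw [← imgFun_mul, mul_inv_cancel, imgFun_one]⟩)
    fun g k => Equiv.ext fun p => imgFun_mul g k p

theorem center_le_ker : Subgroup.center (Cfsg.SU 6 QField 2) ≤ pointHom.ker := by
  intro g hg
  obtain ⟨c, -, hc0, hc⟩ := CfsgLib.Classical.SU_center_scalar card_qfield (by norm_num) hg
  rw [MonoidHom.mem_ker]
  refine Equiv.ext fun p => imgFun_eq (c := c) (fun h => ?_) ?_
  · refine mulVec_ne_zero g (pt_spec p).2.1 ?_
    rw [hc, h]
    funext i
    simp [mulVec_diagonal]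
  · rw [hc]
    funext i
    simp [mulVec_diagonal]

end CfsgLib.Spor.Fi22.U62
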