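import Cfsg.Agent.Lib.Spor.Fi22.U62.Group
import Cfsg.Agent.Lib.Spor.Fi22.PermData
import Cfsg.Agent.Lib.Spor.Fi22.Strict

/-!
The 693 points among the 3510.
-/

set_option autoImplicit false
set_option maxRecDepth 100000

namespace CfsgLib.Spor.Fi22.U62

open CfsgLib.PresCert

/-- the letters of the generators of the centraliser other than the transposition itself -/
def kLetters : List (List ℕ) :=
  [[2], [3], [4], [5], [6], [7], [8], ((List.replicate 5 [0, 1, 2, 3, 4, 7]).flatten).reverse]

theorem emb_ok : (allBelow 693 fun p =>
    let e := Data.emb.half p
    Nat.blt e 3510 && Nat.beq (Perm.data.img 0 e) e &&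
      allBelow p fun r => !Nat.beq (Data.emb.half r) e) = true := by
  decide +kernel

theorem link_ok : (allBelow 8 fun k => allBelow 693 fun p =>
    let q := Data.perm.img k p
    Nat.blt q 693 && Nat.beq (Strict.appS Perm.data (kLetters.getD k []) (Data.emb.half p))
      (Data.emb.half q)) = true := by
  decide +kernel

/-- the word showing that the transposition is a product of an even number of generators -/
def evenW : List ℕ := (List.replicate 5 [7, 1, 0, 2, 5, 3]).flatten

theorem evenW_ok : (allBelow 3510 fun i =>
    Nat.beq (Strict.appS Perm.data ((evenW.reverse.map fun k => kLetters.getD k []).flatten) i)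
      (Perm.data.img 0 i)) = true := by
  decide +kernel

theorem braid_ok : (allBelow 3510 fun i =>
    Nat.beq (Strict.appS Perm.data
      (((List.replicate 3 [7, 3]).flatten.reverse.map fun k => kLetters.getD k []).flatten) i) i) =
      true := by
  decide +kernel

end CfsgLib.Spor.Fi22.U62
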