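import Cfsg.Agent.Lib.Spor.Fi22.U62.Image
import Cfsg.Agent.Lib.Spor.Fi22.U62.Link
import Cfsg.Agent.Lib.Spor.Fi22.Transp
import Cfsg.Prelude.Def_SporadicB

/-!
The centraliser of a transposition is a non-split double cover of the unitary group.
-/

set_option autoImplicit false
set_option maxRecDepth 100000

namespace CfsgLib.Spor.Fi22.U62

open CfsgLib.PresCert Cfsg.Spor CfsgLib.Spor.Fi22.Transp CfsgLib.G2J2

/-- the point of a point -/
noncomputable def point (p : Fin 693) : Fin Perm.data.n :=
  ⟨Data.emb.half p, by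
    have h := allBelow_spec emb_ok p p.2
    simp only [Bool.and_eq_true, Nat.blt_eq] at h
    exact h.1.1⟩

theorem point_inj : Function.Injective point := by
  intro i j e
  have e' : Data.emb.half i.val = Data.emb.half j.val := congrArg Fin.val e
  have key : ∀ a b : Fin 693, a.val < b.val → Data.emb.half a.val ≠ Data.emb.half b.val :=
    fun a b hab he => by
      have h := allBelow_spec emb_ok b b.2
      simp only [Bool.and_eq_true] at h
      have := allBelow_spec h.2 a.val hab
      simp [he] at this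
  rcases Nat.lt_trichotomy i.val j.val with hl | hl | hl
  exacts [absurd e' (key i j hl), Fin.ext hl, absurd e'.symm (key j i hl)]

/-- the eight words -/
def xWords : List (List Fi22.Gen) :=
  [[.c], [.d], [.e], [.f], [.g], [.h], [.i], (List.replicate 5 [.a, .b, .c, .d, .e, .h]).flatten]

theorem xWords_mem : ∀ w ∈ xWords, w ∈ hWords := by decide

theorem xWords_idx : ∀ k < 8, ((xWords.getD k [.c]).map idx).reverse = kLetters.getD k [] := by
  decide

/-- the eight generators -/
noncomputable def x (k : ℕ) : H :=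
  ⟨((xWords.getD k [.c]).map gen).prod, word_mem (xWords_mem _ (by
    by_cases h : k < xWords.length
    · rw [List.getD_eq_getElem _ _ h]; exact List.getElem_mem h
    · rw [List.getD_eq_default _ _ (not_lt.1 h)]; exact List.mem_cons_self))⟩

/-- the transposition in the subgroup -/
noncomputable def gaH : H :=
  ⟨ga, by simpa [ga] using word_mem (w := [Fi22.Gen.a]) (List.mem_cons_self)⟩

theorem π_x {k : ℕ} (hk : k < 8) (i : Fin Perm.data.n) :
    ((π (x k : Cfsg.Spor.Fi22) i : Fin Perm.data.n) : ℕ) =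
      Perm.data.app (kLetters.getD k []) i := by
  rw [x, π_word, xWords_idx k hk]

theorem gens_top : Subgroup.closure ({y : H | ∃ k < 8, x k = y} ∪ {gaH}) = ⊤ := by
  refine Subgroup.map_injective H.subtype_injective ?_
  rw [MonoidHom.map_closure, ← MonoidHom.range_eq_map, Subgroup.range_subtype]
  refine le_antisymm ((Subgroup.closure_le _).2 ?_) ?_
  · rintro _ ⟨y, -, rfl⟩; exact y.2
  · conv_lhs => rw [H, wordsGroup]
    refine Subgroup.closure_mono ?_
    rintro _ ⟨w, hw, rfl⟩
    simp only [hWords, List.mem_cons, List.not_mem_nil, or_false] at hw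
    rcases hw with rfl | rfl | rfl | rfl | rfl | rfl | rfl | rfl | rfl
    · exact ⟨gaH, Or.inr rfl, by simp [gaH, ga]⟩
    all_goals first
      | exact ⟨x 0, Or.inl ⟨0, by norm_num, rfl⟩, rfl⟩
      | exact ⟨x 1, Or.inl ⟨1, by norm_num, rfl⟩, rfl⟩
      | exact ⟨x 2, Or.inl ⟨2, by norm_num, rfl⟩, rfl⟩
      | exact ⟨x 3, Or.inl ⟨3, by norm_num, rfl⟩, rfl⟩
      | exact ⟨x 4, Or.inl ⟨4, by norm_num, rfl⟩, rfl⟩
      | exact ⟨x 5, Or.inl ⟨5, by norm_num, rfl⟩, rfl⟩
      | exact ⟨x 6, Or.inl ⟨6, by norm_num, rfl⟩, rfl⟩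
      | exact ⟨x 7, Or.inl ⟨7, by norm_num, rfl⟩, rfl⟩

theorem orbit_inv : ∀ (h : H) (p : Fin 693), ∃ q, (π.comp H.subtype) h (point p) = point q := by
  refine CfsgLib.G2J2.exists_image (π.comp H.subtype) point_inj gens_top ?_
  rintro h (⟨k, hk, rfl⟩ | rfl) p
  · have e := allBelow_spec (allBelow_spec link_ok k hk) p p.2
    simp only [Bool.and_eq_true, Nat.blt_eq, Nat.beq_eq, Strict.appS_eq] at e
    exact ⟨⟨_, e.1⟩, Fin.ext ((π_x hk _).trans e.2)⟩
  · have e := allBelow_spec emb_ok p p.2
    simp only [Bool.and_eq_true, Nat.beq_eq] at e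
    exact ⟨p, Fin.ext ((π_gen _ _).trans e.1.2)⟩

/-- the action on 693 points -/
noncomputable def ρ : H →* Equiv.Perm (Fin 693) := CfsgLib.G2J2.indHom (π.comp H.subtype) point_inj orbit_inv

theorem ρ_x (k : ℕ) (hk : k < 8) (p : Fin 693) :
    ((ρ (x k) p : Fin 693) : ℕ) = Data.perm.img k p := by
  have e := allBelow_spec (allBelow_spec link_ok k hk) p p.2
  simp only [Bool.and_eq_true, Nat.blt_eq, Nat.beq_eq, Strict.appS_eq] at e
  exact congrArg Fin.val
    (CfsgLib.G2J2.indHom_eq (π.comp H.subtype) point_inj orbit_inv (j := ⟨_, e.1⟩) (Fin.ext ((π_x hk _).trans e.2)))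

theorem ρ_gaH : ρ gaH = 1 := by
  refine Equiv.ext fun p => CfsgLib.G2J2.indHom_eq (π.comp H.subtype) point_inj orbit_inv (Fin.ext ?_)
  have e := allBelow_spec emb_ok p p.2
  simp only [Bool.and_eq_true, Nat.beq_eq] at e
  exact (π_gen _ _).trans e.1.2

theorem gaH_ne_one : gaH ≠ 1 := by
  intro h
  have e : π (gen .a) = 1 := by rw [show gen Fi22.Gen.a = (gaH : Cfsg.Spor.Fi22) from rfl, h, Subgroup.coe_one, map_one]
  have e1 : ∀ i : Fin Perm.data.n, Perm.data.img 0 i = i := fun i => by
    rw [show (0 : ℕ) = idx Fi22.Gen.a from rfl, ← π_gen, e]; rfl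
  have := e1 ⟨1, by decide +kernel⟩
  revert this
  decide +kernel

theorem card_H : Nat.card H = 18393661440 := by
  have h := H.card_mul_index
  rw [index_H, natCard] at h
  omega

theorem exists_map : ∃ φ : H →* Cfsg.PSU 6 QField 2, Function.Surjective φ ∧
    φ.ker = Subgroup.zpowers gaH ∧ φ.ker = Subgroup.center H ∧ Nat.card (Subgroup.center H) = 2 := by
  haveI : Finite H := Nat.finite_of_card_ne_zero (by rw [card_H]; norm_num)
  have hg : Subgroup.closure ({y : H | ∃ k < 8, x k = y} ∪ (ρ.ker : Set H)) = ⊤ := by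
    rw [eq_top_iff, ← gens_top]
    refine Subgroup.closure_mono (Set.union_subset_union_right _ ?_)
    rintro _ rfl
    exact ρ_gaH
  obtain ⟨φ, hφ, hker, -⟩ := exists_surjective ρ x ρ_x hg
  have hga : gaH ∈ φ.ker := by rw [hker]; exact ρ_gaH
  have hk2 : Nat.card φ.ker = 2 := by
    have h := φ.ker.card_mul_index
    rw [Subgroup.index_ker, MonoidHom.range_eq_top.2 hφ, Subgroup.card_top, card_psu,
      card_H] at h
    omega
  have hord : orderOf gaH = 2 := orderOf_eq_prime (Subtype.ext (by
    rw [pow_two, Subgroup.coe_mul, Subgroup.coe_one]; exact gen_sq _)) gaH_ne_one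
  have hz : φ.ker = Subgroup.zpowers gaH := by
    refine (Subgroup.eq_of_le_of_card_ge (Subgroup.zpowers_le.2 hga) ?_).symm
    rw [hk2, Nat.card_zpowers, hord]
  have hac : gaH ∈ Subgroup.center H := Subgroup.mem_center_iff.2 fun y => Subtype.ext (by
    rw [Subgroup.coe_mul, Subgroup.coe_mul]
    exact Subgroup.mem_centralizer_singleton_iff.1 (H_le_centralizer y.2))
  have hzc : φ.ker = Subgroup.center H := by
    refine le_antisymm (hz ▸ Subgroup.zpowers_le.2 hac) fun y hy => ?_
    haveI := psu_simple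
    rw [MonoidHom.mem_ker]
    have hcy : φ y ∈ Subgroup.center (Cfsg.PSU 6 QField 2) := Subgroup.mem_center_iff.2 fun u => by
      obtain ⟨v, rfl⟩ := hφ u
      rw [← map_mul, ← map_mul, Subgroup.mem_center_iff.1 hy v]
    rcases Subgroup.Normal.eq_bot_or_eq_top
      (inferInstance : (Subgroup.center (Cfsg.PSU 6 QField 2)).Normal) with h | h
    · rwa [h, Subgroup.mem_bot] at hcy
    · exfalso
      haveI : IsMulCommutative (Cfsg.PSU 6 QField 2) :=
        ⟨⟨fun a b => Subgroup.mem_center_iff.1 (h ▸ Subgroup.mem_top b) a⟩⟩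
      have hc : ∀ u v : Cfsg.PSU 6 QField 2, u * v = v * u := fun u v =>
        Subgroup.mem_center_iff.1 (h ▸ Subgroup.mem_top v) u
      have hp : (Nat.card (Cfsg.PSU 6 QField 2)).Prime := by
        letI : CommGroup (Cfsg.PSU 6 QField 2) :=
          { (inferInstance : Group (Cfsg.PSU 6 QField 2)) with mul_comm := hc }
        exact IsSimpleGroup.prime_card
      rw [card_psu] at hp
      exact absurd hp (by norm_num)
  exact ⟨φ, hφ, hz, hzc, hzc ▸ hk2⟩

theorem π_letters : ∀ (l : List ℕ), (∀ k ∈ l, k < 8) → ∀ i : Fin Perm.data.n,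
    ((π ((l.map x).prod : H).1 i : Fin Perm.data.n) : ℕ) =
      Perm.data.app ((l.reverse.map fun k => kLetters.getD k []).flatten) i := by
  intro l
  induction l with
  | nil => intro _ i; simp [PermData.app]
  | cons k l ih =>
    intro h i
    have happ : ∀ (u v : List ℕ) (j : ℕ), Perm.data.app (u ++ v) j =
        Perm.data.app v (Perm.data.app u j) := by
      intro u
      induction u with
      | nil => intro v j; rfl
      | cons a u ihu => intro v j; exact ihu v _
    rw [List.map_cons, List.prod_cons, Subgroup.coe_mul, map_mul, Equiv.Perm.mul_apply,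
      π_x (h k (List.mem_cons_self ..)), ih (fun j hj => h j (List.mem_cons_of_mem _ hj)),
      List.reverse_cons, List.map_append, List.flatten_append, happ]
    simp

theorem braid_rel : ∀ k < 7, ∀ l < 7, coxLabel Fi22.edges ((xWords.getD k [.c]).getD 0 .c)
    ((xWords.getD l [.c]).getD 0 .c) = 3 → (x k * x l) ^ 3 = 1 := by
  intro k hk l hl h
  refine Subtype.ext ?_
  have hx : ∀ j < 7, (x j : Cfsg.Spor.Fi22) = gen ((xWords.getD j [.c]).getD 0 .c) := by
    intro j hj
    interval_cases j <;> simp [x, xWords]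
  rw [Subgroup.coe_pow, Subgroup.coe_mul, Subgroup.coe_one, hx k hk, hx l hl, ← h]
  exact pgen_cox (mem_nodes _) (mem_nodes _)

theorem not_complement (L : Subgroup H) : ¬ (Subgroup.center H).IsComplement' L := by
  intro hL
  obtain ⟨φ, -, hz, hzc, hc2⟩ := exists_map
  have hidx2 : L.index = 2 := by rw [hL.index_eq_card, hc2]
  haveI := Subgroup.normal_of_index_eq_two hidx2
  let q := QuotientGroup.mk' L
  have hq2 : ∀ u : H ⧸ L, u * u = 1 := fun u => by
    obtain ⟨u, rfl⟩ := QuotientGroup.mk_surjective u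
    rw [← QuotientGroup.mk_mul, QuotientGroup.eq_one_iff]
    exact Subgroup.mul_self_mem_of_index_two hidx2 u
  have hodd : ∀ u v : H, (u * v) ^ 3 = 1 → q u = q v := by
    intro u v h
    have e := congrArg q h
    rw [map_pow, map_one, map_mul, pow_succ, pow_two, hq2, one_mul] at e
    rw [← mul_one (q u), ← hq2 (q v), ← mul_assoc, e, one_mul]
  have hs : ∀ k < 7, q (x k) = q (x 0) := by
    have h01 := hodd _ _ (braid_rel 0 (by norm_num) 1 (by norm_num) (by decide))
    have h12 := hodd _ _ (braid_rel 1 (by norm_num) 2 (by norm_num) (by decide))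
    have h23 := hodd _ _ (braid_rel 2 (by norm_num) 3 (by norm_num) (by decide))
    have h34 := hodd _ _ (braid_rel 3 (by norm_num) 4 (by norm_num) (by decide))
    have h15 := hodd _ _ (braid_rel 1 (by norm_num) 5 (by norm_num) (by decide))
    have h56 := hodd _ _ (braid_rel 5 (by norm_num) 6 (by norm_num) (by decide))
    intro k hk
    interval_cases k
    exacts [rfl, h01.symm, (h01.trans h12).symm, ((h01.trans h12).trans h23).symm,
      (((h01.trans h12).trans h23).trans h34).symm, (h01.trans h15).symm,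
      ((h01.trans h15).trans h56).symm]
  have hinj := π_injective
  have h73 : (x 7 * x 3) ^ 3 = 1 := by
    refine Subtype.ext (hinj (Equiv.ext fun i => Fin.ext ?_))
    rw [show (x 7 * x 3) ^ 3 = (((List.replicate 3 [7, 3]).flatten).map x).prod by
      simp [List.replicate_succ, pow_succ, mul_assoc], π_letters _ (by decide) i,
      ← Strict.appS_eq, Nat.eq_of_beq_eq_true (allBelow_spec braid_ok i i.2), Subgroup.coe_one, map_one]
    rfl
  have hall : ∀ k < 8, q (x k) = q (x 0) := fun k hk => by
    rcases Nat.lt_or_ge k 7 with h | h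
    · exact hs k h
    · obtain rfl : k = 7 := by omega
      exact (hodd _ _ h73).trans (hs 3 (by norm_num))
  have hev : gaH = (evenW.map x).prod := by
    refine Subtype.ext (hinj (Equiv.ext fun i => Fin.ext ?_))
    rw [π_letters _ (by decide) i, ← Strict.appS_eq, Nat.eq_of_beq_eq_true (allBelow_spec evenW_ok i i.2)]
    exact π_gen _ _
  have hqa : q gaH = 1 := by
    rw [hev, map_list_prod, List.map_map, List.map_congr_left
      (f := ⇑q ∘ x) (g := fun _ => q (x 0)) fun k hk => hall k (by
        exact (by decide : ∀ j ∈ evenW, j < 8) k hk),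
      List.map_const', List.prod_replicate, show evenW.length = 2 * 15 from rfl, pow_mul, pow_two,
      hq2, one_pow]
  have hmem : gaH ∈ L := (QuotientGroup.eq_one_iff _).1 hqa
  have hb : gaH ∈ Subgroup.center H ⊓ L := ⟨hzc ▸ hz ▸ Subgroup.mem_zpowers _, hmem⟩
  rw [hL.disjoint.eq_bot, Subgroup.mem_bot] at hb
  exact gaH_ne_one hb

theorem isNonsplitDoubleCover : Cfsg.IsNonsplitDoubleCover H (Cfsg.PSU 6 QField 2) := by
  obtain ⟨φ, hφ, -, hzc, hc2⟩ := exists_map
  exact ⟨hc2, ⟨(QuotientGroup.quotientMulEquivOfEq hzc.symm).trans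
    (QuotientGroup.quotientKerEquivOfSurjective φ hφ)⟩, not_complement⟩

end CfsgLib.Spor.Fi22.U62
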