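import Cfsg.Agent.Lib.Spor.Fi22.U62.Action
import Cfsg.Agent.Lib.Spor.Fi22.U62.Group
import Cfsg.Agent.Lib.PresCert.PermSound

/-!
The group of degree 693 is the projective special unitary group.
-/

set_option autoImplicit false
set_option maxRecDepth 100000

namespace CfsgLib.Spor.Fi22.U62

open Matrix CfsgLib.PresCert CfsgLib.Classical.Unitary

/-- code of the centre of a transvection -/
noncomputable def centre (j : ℕ) : ℕ := ptC (Data.centres.getD j 0 % 693)

theorem centre_iso (j : ℕ) : uh sig (ev (centre j)) (ev (centre j)) = 0 :=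
  (pt_spec ⟨Data.centres.getD j 0 % 693, Nat.mod_lt _ (by norm_num)⟩).1

theorem skew_one : (1 : QField) + sig 1 = 0 := by decide +kernel

/-- the twelve transvections -/
noncomputable def transv (j : ℕ) : Cfsg.SU 6 QField 2 :=
  utv sig_frob (ev (centre j)) 1 (centre_iso j) skew_one

/-- their tables -/
noncomputable def transvImg (j p : ℕ) : ℕ := Data.transvTab.half (Nat.add (Nat.mul j 693) p)

theorem transv_ok : (allBelow 12 fun j => allBelow 693 fun p =>
    let q := transvImg j p
    let w := axpy (ptC p) (hh (ptC p) (centre j)) (centre j)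
    Nat.blt q 693 && Nat.blt 0 w && units.any fun c => Nat.beq (scale c (ptC q)) w) = true := by
  decide +kernel

theorem pointHom_transv {j : ℕ} (hj : j < 12) (p : Fin 693) :
    ((pointHom (transv j) p : Fin 693) : ℕ) = transvImg j p := by
  have h := allBelow_spec (allBelow_spec transv_ok j hj) p p.2
  simp only [Bool.and_eq_true, Nat.blt_eq, List.any_eq_true, Nat.beq_eq] at h
  obtain ⟨⟨hq, hw⟩, c, hc, e⟩ := h
  rw [show pointHom (transv j) p = imgFun (transv j) p from rfl]
  refine congrArg Fin.val (imgFun_eq (r := ⟨_, hq⟩) (c := c) ?_ ?_)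
  · rintro rfl
    revert hc
    decide +kernel
  · rw [transv, utv_mulVec, one_mul, pt, pt, uh_ev]
    have e' := congrArg ev e
    rw [← enc_axpy, ← enc_smul, ev_enc, ev_enc] at e'
    exact e'.symm

/-- product of the five transvections -/
noncomputable def five : Cfsg.SU 6 QField 2 :=
  transv 11 * transv 10 * transv 9 * transv 8 * transv 7

theorem five_ok : (allBelow 693 fun p =>
    Nat.beq (transvImg 11 (transvImg 10 (transvImg 9 (transvImg 8 (transvImg 7 p)))))
      (Data.perm.img 7 p)) = true := by
  decide +kernel

theorem seven_ok : (allBelow 7 fun j => allBelow 693 fun p =>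
    Nat.beq (transvImg j p) (Data.perm.img j p)) = true := by
  decide +kernel

/-- the elements of the special unitary group above the generators -/
noncomputable def lift (k : ℕ) : Cfsg.SU 6 QField 2 := if k < 7 then transv k else five

theorem lift_img (k : ℕ) (hk : k < 8) (p : Fin 693) :
    ((pointHom (lift k) p : Fin 693) : ℕ) = Data.perm.img k p := by
  rw [lift]
  split
  · next h =>
    rw [pointHom_transv (by omega) p]
    exact Nat.eq_of_beq_eq_true (allBelow_spec (allBelow_spec seven_ok k h) p p.2)
  · obtain rfl : k = 7 := by omega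
    rw [← Nat.eq_of_beq_eq_true (allBelow_spec five_ok p p.2), five]
    simp only [map_mul, Equiv.Perm.mul_apply]
    repeat rw [pointHom_transv (by norm_num)]

theorem words_ok : Data.perm.okWords Data.perm.g Data.perm.words = true := by decide +kernel

theorem levels_ok : Data.perm.okLevels [] Data.levels = true := by decide +kernel

theorem levels_prod : (Data.levels.map Level.len).prod = 9196830720 := by decide +kernel

theorem card_psu : Nat.card (Cfsg.PSU 6 QField 2) = 9196830720 := by
  have h1 := CfsgLib.Classical.card_PSU_mul (n := 6) card_qfield (by norm_num)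
  rw [CfsgLib.Classical.card_GU card_qfield 6] at h1
  simp only [Finset.prod_range_succ, Finset.prod_range_zero] at h1
  norm_num at h1
  omega

theorem psu_simple : IsSimpleGroup (Cfsg.PSU 6 QField 2) :=
  isSimpleGroup_PSU card_qfield (by norm_num) (by norm_num)

/-- the action of the projective group -/
noncomputable def psuHom : Cfsg.PSU 6 QField 2 →* Equiv.Perm (Fin 693) :=
  QuotientGroup.lift _ pointHom center_le_ker

theorem psuHom_mk (g : Cfsg.SU 6 QField 2) : psuHom (QuotientGroup.mk g) = pointHom g := rfl

theorem psuHom_injective : Function.Injective psuHom := by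
  haveI := psu_simple
  rcases Subgroup.Normal.eq_bot_or_eq_top (inferInstance : psuHom.ker.Normal) with h | h
  · exact (MonoidHom.ker_eq_bot_iff _).1 h
  · exfalso
    have hk : (QuotientGroup.mk (lift 0) : Cfsg.PSU 6 QField 2) ∈ psuHom.ker :=
      h ▸ Subgroup.mem_top _
    rw [MonoidHom.mem_ker, psuHom_mk] at hk
    have key : Data.perm.img 0 1 = 1 := by
      rw [← show ((pointHom (lift 0) (1 : Fin 693) : Fin 693) : ℕ) = Data.perm.img 0 1 from
        lift_img 0 (by norm_num) 1, hk]
      rfl
    revert key
    decide +kernel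

/-- The image of a group on 693 points with the given generators is that of the projective group. -/
theorem exists_surjective {G : Type*} [Group G] [Finite G] (ρ : G →* Equiv.Perm (Fin 693))
    (x : ℕ → G) (hx : ∀ k < 8, ∀ p : Fin 693, ((ρ (x k) p : Fin 693) : ℕ) = Data.perm.img k p)
    (hgen : Subgroup.closure ({y | ∃ k < 8, x k = y} ∪ (ρ.ker : Set G)) = ⊤) :
    ∃ φ : G →* Cfsg.PSU 6 QField 2, Function.Surjective φ ∧ φ.ker = ρ.ker ∧
      ∀ k < 8, φ (x k) = QuotientGroup.mk (lift k) := by
  have hle : ρ.range ≤ psuHom.range := by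
    rw [MonoidHom.range_eq_map, ← hgen, MonoidHom.map_closure, Subgroup.closure_le]
    rintro _ ⟨y, (⟨k, hk, rfl⟩ | hy), rfl⟩
    · exact ⟨QuotientGroup.mk (lift k), Equiv.ext fun p => Fin.ext (by
        rw [psuHom_mk, lift_img k hk p, hx k hk p])⟩
    · rw [SetLike.mem_coe, MonoidHom.mem_ker] at hy
      rw [hy]
      exact one_mem _
  have hlow : 9196830720 ≤ Nat.card ρ.range := by
    have h := PermData.le_card_of_hom (D := Data.perm) (⊤ : Subgroup ρ.range) ρ.range.subtype
      (fun k hk => ⟨ρ.rangeRestrict (x k), trivial, hx k hk⟩) words_ok Data.levels levels_ok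
    rwa [levels_prod, Subgroup.card_top] at h
  have heq : ρ.range = psuHom.range := by
    haveI : Finite psuHom.range := Finite.of_injective _ Subtype.val_injective
    exact Subgroup.eq_of_le_of_card_ge hle (by
      rwa [← Nat.card_congr (MonoidHom.ofInjective psuHom_injective).toEquiv, card_psu])
  let e : psuHom.range ≃* Cfsg.PSU 6 QField 2 := (MonoidHom.ofInjective psuHom_injective).symm
  refine ⟨(e.toMonoidHom.comp (MulEquiv.subgroupCongr heq).toMonoidHom).comp ρ.rangeRestrict,
    e.surjective.comp ((MulEquiv.subgroupCongr heq).surjective.comp ρ.rangeRestrict_surjective),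
    ?_, fun k hk => ?_⟩
  · ext g
    simp only [MonoidHom.mem_ker, MonoidHom.comp_apply, MulEquiv.coe_toMonoidHom,
      MulEquiv.map_eq_one_iff]
    exact ⟨fun h => congrArg Subtype.val h, fun h => Subtype.ext h⟩
  · refine psuHom_injective ?_
    show ((MonoidHom.ofInjective psuHom_injective (e _) : psuHom.range) : Equiv.Perm (Fin 693)) = _
    rw [MulEquiv.apply_symm_apply]
    exact Equiv.ext fun p => Fin.ext (by rw [psuHom_mk, lift_img k hk p, ← hx k hk p]; rfl)

end CfsgLib.Spor.Fi22.U62
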